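import Cfsg.Agent.GCT.SwapA
import Cfsg.Agent.GCT.Kill
import Cfsg.Agent.GCT.Pair
import Cfsg.Agent.Local.InvolCount
import Cfsg.Agent.CIT.Basic
import Cfsg.Agent.Char.ElemParts

/-! Pushing up with an element interchanging `A` and `B`: the local contradiction. -/

set_option autoImplicit false

open scoped commutatorElement MatrixGroups

namespace Cfsg.Lib.GCT

open Cfsg Subgroup Cfsg.Lib.Trans Cfsg.Lib.Gold Cfsg.Lib.Gomi

universe u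

variable {G : Type u} [Group G] [Finite G] {F : Type} [Field F] [Fintype F]
  {θ : G → SL(2, F)} {ψ : G → Fin 2 → F} {A B D' : Subgroup G} {x y t : G}

/-- `y` interchanges `A` and `B`. -/
def Sw (A B : Subgroup G) (y : G) : Prop := cj y A = B ∧ cj y B = A

/-- Elements of `A ⊓ B` fixed by a swap have their centralisers in `N(A B)`. -/
def SZ (A B : Subgroup G) : Prop :=
  ∀ y z, Sw A B y → z ∈ A ⊓ B → z ≠ 1 → y * z = z * y → C1 z ≤ Ns (A ⊔ B)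

/-- Involutions normalising `A B` and conjugate into `A B` lie in `A B`. -/
def SN (A B : Subgroup G) : Prop :=
  ∀ t ∈ Ns (A ⊔ B), t * t = 1 → ∀ g, g * t * g⁻¹ ∈ A ⊔ B → t ∈ A ⊔ B

omit [Finite G] in
theorem Sw.mem (h : Sw A B y) : y ∈ Ns (A ⊔ B) :=
  mem_Ns_iff.2 (by rw [cj_sup, h.1, h.2, sup_comm])

omit [Finite G] in
theorem Sw.symm (h : Sw A B y) : Sw B A y := ⟨h.2, h.1⟩

omit [Finite G] in
theorem Sw.mA (h : Sw A B y) {a : G} : y * a * y⁻¹ ∈ A ↔ a ∈ B := h.2 ▸ conj_mem_cj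

omit [Finite G] in
theorem Sw.mB (h : Sw A B y) {a : G} : y * a * y⁻¹ ∈ B ↔ a ∈ A := h.1 ▸ conj_mem_cj

omit [Finite G] in
theorem Sw.sq (h : Sw A B y) (h' : Sw A B x) : y * x ∈ Ns A ⊓ Ns B :=
  ⟨mem_Ns_iff.2 (by rw [cj_mul, h'.1, h.2]), mem_Ns_iff.2 (by rw [cj_mul, h'.2, h.1])⟩

omit [Finite G] in
theorem Sw.mul (h : Sw A B y) {n : G} (hn : n ∈ Ns A ⊓ Ns B) : Sw A B (n * y) :=
  ⟨by rw [cj_mul, h.1, mem_Ns_iff.1 hn.2], by rw [cj_mul, h.2, mem_Ns_iff.1 hn.1]⟩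

theorem Sw.two (h : Sw A B x) : ∃ y ∈ zpowers x, Sw A B y ∧ E2 y := by
  obtain ⟨m, k, ⟨j, rfl⟩, e⟩ := CIT.exists_odd_pow_two_elt x
  refine ⟨_, npow_mem_zpowers _ _, ?_, k, e⟩
  rw [pow_succ, pow_mul, pow_two]
  exact h.mul (pow_mem (h.sq h) j)

omit [Finite G] in
/-- an involution of `A B` commuting with its image under a swap -/
theorem Sw.mem_Z (h : Sw A B y) (ab : AB A B) {e : G} (he : e ∈ A ⊔ B) (e2 : e * e = 1)
    (hc : e * (y * e * y⁻¹) = y * e * y⁻¹ * e) : e ∈ A ⊓ B := by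
  rcases ab.inv e he e2 with k | k
  · exact ⟨k, (ab.mem_or_mem k (h.mB.2 k) hc).elim id h.mA.1⟩
  · exact ⟨(ab.mem_or_mem (h.mA.2 k) k hc.symm).elim h.mB.1 id, k⟩

theorem exists_fix_ne {X P : Subgroup G} (hX : IsPGroup 2 X) (hP : IsPGroup 2 P) (hn : P ≤ Ns X)
    (h : X ≠ ⊥) : ∃ u ∈ X, u ≠ 1 ∧ u ∈ Cs P := by
  obtain ⟨u, a, b, c⟩ := exists_fix_mod (Y := ⊥) hX hP hn (mt le_bot_iff.1 h)
  exact ⟨u, a, b, fun p hp => (commutatorElement_eq_one_iff_mul_comm.1 (c p hp).2).symm⟩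

theorem exists_prim {Z : Subgroup G} {x : G} (hx : x ∉ Z) :
    ∃ p k : ℕ, p.Prime ∧ p ∣ orderOf x ∧ ∃ y ∈ zpowers x, orderOf y = p ^ k ∧ y ∉ Z := by
  induction e : orderOf x using Nat.strong_induction_on generalizing x with | _ n ih => ?_
  subst e
  have h1 : orderOf x ≠ 1 := fun e => hx (orderOf_eq_one_iff.1 e ▸ one_mem _)
  have hp := Nat.minFac_prime h1
  obtain ⟨u, hu, v, hv, e, -, ⟨k, hk⟩, h2⟩ :=
    Char.Parts.exists_pPart_mul_pPrimePart hp (isOfFinOrder_of_finite x)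
  by_cases h : u ∈ Z
  · have h3 := orderOf_dvd_of_mem_zpowers hv
    obtain ⟨p, k, a, b, y, c, d⟩ := ih _ ((Nat.le_of_dvd (orderOf_pos x) h3).lt_of_ne fun e =>
      h2 (e ▸ Nat.minFac_dvd _)) (fun l => hx (e ▸ mul_mem h l)) rfl
    exact ⟨p, k, a, b.trans h3, y, zpowers_le.2 hv c, d⟩
  · exact ⟨_, k, hp, Nat.minFac_dvd _, u, hu, hk, h⟩

namespace K0

variable (c : K0 A B D' θ ψ)
include c

omit [Finite G] in
theorem Z_ne : A ⊓ B ≠ ⊥ := fun e => by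
  obtain ⟨z, hz, h⟩ := c.par.exists_Z 1
  rw [e, mem_bot] at hz
  exact one_ne_zero (h.1.symm.trans (hz ▸ c.par.psi_one 0))

theorem NJ_le : Ns (A ⊔ B) ≤ Ns (A ⊓ B) := fun g hg =>
  (c.or_swap hg).elim (fun k => Ns_inf_le_Ns_inf k) fun k =>
    mem_Ns_iff.2 (by rw [cj_inf, k.1, k.2, inf_comm])

theorem fld {e : G} (he : e ∈ Ns A ⊓ Ns B) (h2 : E2 e) (h : e ∉ A ⊔ B) :
    (∃ a ∈ A, ⁅e, a⁆ ∉ B) ∧ ∃ b ∈ B, ⁅e, b⁆ ∉ A := by
  obtain ⟨σ, f, g, k, m⟩ := c.exists_field he h2 h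
  constructor <;> by_contra! l
  exacts [m (c.par.act_of_A k l).1, m (c.par.act_of_B k l).1]

theorem fix_fld (ht : t ∈ Ns A ⊓ Ns B) (h2 : t * t = 1) (h : t ∉ A ⊔ B) :
    (∃ a ∈ A, a ∉ B ∧ a ∈ C1 t) ∧ ∃ b ∈ B, b ∉ A ∧ b ∈ C1 t := by
  have k {X : Subgroup G} (sq : ∀ a ∈ X, a * a = 1) (hX : t ∈ Ns X) {a : G} (ha : a ∈ X) :
      ⁅t, a⁆ ∈ C1 t := mem_C1.2 (by
    have := inv_eq_of_sq (sq _ (Par.comm_mem_N hX ha))
    rw [commutatorElement_inv] at this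
    nth_rw 2 [← this]
    rw [commutatorElement_def, commutatorElement_def, inv_eq_of_sq h2, inv_eq_of_sq (sq a ha)]
    simp only [mul_assoc])
  obtain ⟨⟨a, ha, h1⟩, b, hb, h3⟩ := c.fld ht ⟨1, by rw [pow_one, pow_two, h2]⟩ h
  exact ⟨⟨_, Par.comm_mem_N ht.1 ha, h1, k c.ab.sqA ht.1 ha⟩, _, Par.comm_mem_N ht.2 hb, h3,
    k c.ab.sqB ht.2 hb⟩

theorem sw_N (sz : SZ A B) (sn : SN A B) {X : Subgroup G} (hX : X ≤ Ns (A ⊔ B)) (h : Sw A B y)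
    (hy : y ∈ Ns X) {r : G} (hr : r ∈ X) (hZ : r ∈ A ⊓ B) (r1 : r ≠ 1) (e : y * r = r * y) :
    Ns X ≤ Ns (A ⊔ B) := fun g hg => by
  have key : ∀ x ∈ X, x * x = 1 → x ∈ A ⊔ B → ∀ h ∈ Ns X, h * x * h⁻¹ ∈ A ⊔ B :=
    fun x hx x2 hJ h hh => sn _ (hX (mem_normalizer_conj hh hx))
      (by rw [conj_mul, x2, mul_one, mul_inv_cancel]) h⁻¹ (by simpa [mul_assoc] using hJ)
  have r2 := c.ab.sqA r hZ.1
  have s2 : ∀ g : G, g * r * g⁻¹ * (g * r * g⁻¹) = 1 := fun g => by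
    rw [conj_mul, r2, mul_one, mul_inv_cancel]
  have k := key r hr r2 (mem_sup_left hZ.1) _ (inv_mem hg)
  have k1 := key _ (mem_normalizer_conj (mul_mem hy (inv_mem hg)) hr) (s2 _)
    (by rw [conj_mul_eq]; exact mem_normalizer_conj h.mem k) g hg
  have k2 := h.mem_Z c.ab k (s2 _) (by
    have := c.ab.comm_Z k1 hZ
    rw [← conj_mul_eq]
    generalize y * g⁻¹ * r * (y * g⁻¹)⁻¹ = s at this
    calc g⁻¹ * r * g⁻¹⁻¹ * s = g⁻¹ * (r * (g * s * g⁻¹)) * g := by group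
      _ = _ := by rw [this]; group)
  refine c.mem_Ns (cj_le_iff.2 fun j hj => sz y r h hZ r1 e (mem_C1.2 ?_))
  calc g * j * g⁻¹ * r = g * (j * (g⁻¹ * r * g⁻¹⁻¹)) * g⁻¹ := by group
    _ = _ := by rw [← c.ab.comm_Z hj k2]; group

theorem sw_C (hG : IsCharacteristicTwoType G) (sz : SZ A B) (sn : SN A B) (h : Sw A B y)
    (h2 : E2 y) (ht : t ∈ Ns (A ⊔ B)) (t2 : t * t = 1) (t1 : t ≠ 1) (e : y * t = t * y) :
    C1 t ≤ Ns (A ⊔ B) := by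
  have pZ : IsPGroup 2 (A ⊓ B : Subgroup G) := c.ab.isPGroup.to_le (inf_le_left.trans le_sup_left)
  have yC : y ∈ C1 t := mem_C1.2 e
  have tC : t ∈ C1 t := mem_C1.2 rfl
  obtain ⟨k, hk⟩ := h2
  have p0 : IsPGroup 2 (zpowers y ⊔ zpowers t : Subgroup G) :=
    (Solv.PG.isPGroup_zpowers hk).to_sup_of_normal_right' (Solv.PG.isPGroup_zpowers (k := 1)
      (by rw [pow_one, pow_two, t2])) (zpowers_le.2 (Cs_le_Ns (by
        rwa [Cs, zpowers_eq_closure, centralizer_closure])))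
  have n0 : zpowers y ⊔ zpowers t ≤ Ns (A ⊓ B) :=
    sup_le (zpowers_le.2 (c.NJ_le h.mem)) (zpowers_le.2 (c.NJ_le ht))
  obtain ⟨r, hr, r1, r2⟩ := exists_fix_ne pZ p0 n0 c.Z_ne
  obtain ⟨T, hT, l⟩ := exists_isSylowIn_ge (H := C1 t) (p0.to_sup_of_normal_right'
    (pZ.to_le (inf_le_left : A ⊓ B ⊓ C1 t ≤ _)) (le_trans (le_inf n0 (le_trans (sup_le
      (zpowers_le.2 yC) (zpowers_le.2 tC)) le_normalizer)) Ns_inf_le_Ns_inf))
    (sup_le (sup_le (zpowers_le.2 yC) (zpowers_le.2 tC)) inf_le_right)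
  have yT := l (mem_sup_left (mem_sup_left (mem_zpowers y)))
  have TN : T ≤ Ns (A ⊔ B) := by
    by_contra n
    refine (lt_inf_normalizer hT.isPGroup (lt_of_le_of_ne (inf_le_left : T ⊓ Ns (A ⊔ B) ≤ T)
      fun k => n (k.ge.trans inf_le_right))).not_ge (inf_le_inf_left _ ?_)
    exact c.sw_N sz sn inf_le_right h (le_normalizer ⟨yT, h.mem⟩) ⟨l (mem_sup_right ⟨hr, mem_C1.2
      (r2 t (mem_sup_right (mem_zpowers t))).symm⟩), le_normalizer (mem_sup_left hr.1)⟩ hr r1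
      (r2 y (mem_sup_left (mem_zpowers y)))
  obtain ⟨s, hs, s1, s2⟩ := exists_fix_ne pZ hT.isPGroup (TN.trans c.NJ_le) c.Z_ne
  have RT := Local.pCoreOf_le_sylowIn hT
  have nR := Local.le_normalizer_pCoreOf (p := 2) (C1 t)
  exact nR.trans (c.sw_N sz sn (RT.trans TN) h (nR yC) (charP_C1 hG t2 t1 ⟨mem_C1.2
    (s2 t (l (mem_sup_left (mem_sup_right (mem_zpowers t))))).symm, Cs_anti RT s2⟩) hs s1
    (s2 y yT))

theorem exists_sw (h : Sw A B x) : ∃ y t, Sw A B y ∧ E2 y ∧ t ∈ zpowers y ∧ t * t = 1 ∧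
    t ∉ A ⊔ B := by
  have P := c.par
  obtain ⟨m₀, hm₀, ho, f1, -⟩ := P.hasPar.exists_fpf c.hq
  obtain ⟨p, k, hp, hd, m, hm, om, hm'⟩ := exists_prim (Z := Cs A) (x := m₀) fun e => by
    obtain ⟨z, hz, hz'⟩ := P.hasPar.exists_Z
    exact hz' (f1 z hz.1 (by
      rw [commutatorElement_eq_one_iff_mul_comm.2 (e z hz.1).symm]; exact one_mem _))
  have := Fact.mk hp
  have mL := zpowers_le.2 hm₀ hm
  have mN : m ∈ Ns A ⊓ Ns B := ⟨LL_le c.ab mL.1, mL.2⟩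
  obtain ⟨g1, -, g3⟩ := P.hasPar.fpf_of_odd mL (ho.of_dvd_nat (orderOf_dvd_of_mem_zpowers hm)) hm'
  obtain ⟨R, hR, l⟩ := exists_isSylowIn_ge (Solv.PG.isPGroup_zpowers (om ▸ pow_orderOf_eq_one m))
    (zpowers_le.2 mN)
  obtain ⟨n, hn, x', hx', e⟩ := hR.frattini (g := x) (mem_normalizer_of_cj_le
    (cj_le_iff.2 fun _ k => conj_N h.1 h.2 k))
  obtain ⟨y, hy, s, j, y2⟩ := (h.mul (inv_mem hn)).two
  rw [e, inv_mul_cancel_left] at hy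
  have key : ∀ b ∈ zpowers y, b ∈ A ⊔ B → b = 1 := fun b hb hJ => by
    have k1 : ⁅m, b⁆ = 1 := by
      have k2 : ⁅m, b⁆ ∈ R ⊓ (A ⊔ B) := ⟨commutatorElement_inv b m ▸ R.inv_mem (Par.comm_mem_N
        (zpowers_le.2 (zpowers_le.2 hx' hy) hb) (l (mem_zpowers m))),
          Par.comm_mem_N (Ns_inf_le_Ns_sup mN) hJ⟩
      have := Fact.mk Nat.prime_two
      exact (IsPGroup.disjoint_of_ne p 2 (fun e => (Nat.not_even_iff_odd.2 ho)
        (even_iff_two_dvd.2 (e ▸ hd))) _ _ hR.isPGroup c.ab.isPGroup).le_bot k2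
    obtain ⟨a, ha, b', hb', rfl⟩ := c.ab.mem_sup.1 hJ
    have k2 := mul_mem ha (g3 b' hb' (by
      rw [comm_mul_right'] at k1
      have := mem_normalizer_conj' (le_normalizer ha) (inv_mem (Par.comm_mem_N mN.1 ha))
      rwa [inv_eq_of_mul_eq_one_right k1, show a⁻¹ * (a * ⁅m, b'⁆ * a⁻¹) * a = ⁅m, b'⁆ by group]
        at this))
    have k3 := g1 _ k2 (k1 ▸ one_mem _)
    refine c.dd.le (mem_inf.2 ⟨k3, ?_⟩)
    have := (c.sw y s.1 s.2).le (conj_mem_cj.2 k3)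
    obtain ⟨i, hi⟩ := mem_zpowers_iff.1 hb
    rwa [← hi, (Commute.zpow_right rfl i).eq, mul_inv_cancel_right, hi] at this
  obtain ⟨t, t1, t2, t3⟩ := exists_sq_mem (J := ⊥) (mem_zpowers y) (fun e => c.ab.nle (by
    rw [← s.1, mem_bot.1 e, cj_one])) (k := j) (mem_bot.2 y2)
  exact ⟨y, t, s, ⟨j, y2⟩, t1, t3, fun e => t2 (key t t1 e)⟩

theorem sw_fin (hG : IsCharacteristicTwoType G) (sz : SZ A B) (sn : SN A B) (h : Sw A B x) :
    False := by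
  have P := c.par.hasPar
  have ab := c.ab
  obtain ⟨y, t, s, y2, ⟨i, hi⟩, t2, tJ⟩ := c.exists_sw h
  have t1 : t ≠ 1 := fun e => tJ (e ▸ one_mem _)
  have tN : t ∈ Ns (A ⊔ B) := hi ▸ zpow_mem s.mem i
  have ct := c.sw_C hG sz sn s y2 tN t2 t1 (hi ▸ (Commute.zpow_right rfl i).eq)
  have sq : ∀ {a : G} (g : G), a * a = 1 → g * a * g⁻¹ * (g * a * g⁻¹) = 1 := fun g e => by
    rw [conj_mul, e, mul_one, mul_inv_cancel]
  rcases c.or_swap tN with k | k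
  · obtain ⟨⟨u, hu, hu', uC⟩, -⟩ := c.fix_fld k t2 tJ
    obtain ⟨l, hl, hz⟩ := P.exists_conj hu
    have lA := LL_le ab hl
    have k1 : l * t * l⁻¹ ∈ Ns A := mul_mem (mul_mem lA k.1) (inv_mem lA)
    have hZ : l * u * l⁻¹ ∈ A ⊓ B := ⟨mem_normalizer_conj lA hu, hz⟩
    obtain ⟨-, v, hv, hv', vC⟩ := c.fix_fld ⟨k1, P.Ns_inf_le (c.cA hG) ⟨k1, P.mem_Ns k1 hZ
      (fun e => hu' (ZZ_le ab ((mem_normalizer_iff.1 (Ns_le_Ns_ZZ lA) u).2 e)).2) (by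
        rwa [conj_inv, conj_mul, conj_mul, ← mem_C1.1 uC, mul_inv_cancel_right])⟩⟩
      (sq l t2) fun e => tJ (sn t tN t2 l e)
    have v1 : l⁻¹ * v * l⁻¹⁻¹ ∈ A ⊔ B := sn _ (ct (mem_C1.2 (by
      calc l⁻¹ * v * l⁻¹⁻¹ * t = l⁻¹ * (v * (l * t * l⁻¹)) * l := by group
        _ = _ := by rw [mem_C1.1 vC]; group))) (sq _ (ab.sqB v hv)) l
      (by simpa [mul_assoc] using mem_sup_right hv)
    exact hv' ((mem_normalizer_iff.1 (inv_mem lA) v).2 (ab.mem_of_comm hu hu' v1 (by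
      calc l⁻¹ * v * l⁻¹⁻¹ * u = l⁻¹ * (v * (l * u * l⁻¹)) * l := by group
        _ = _ := by rw [← ab.comm_Z (mem_sup_right hv) hZ]; group)))
  · obtain ⟨n, b, hb, h1⟩ : ∃ n : G, ∃ b ∈ B, n * b * n⁻¹ ∉ Ns (A ⊓ B) := by
      by_contra! l
      exact P.mov (iSup₂_le fun n _ => cj_le_iff.2 (l n))
    have b2 := sq n (ab.sqB b hb)
    have o : ∀ {a : G}, a * a = 1 → a ≠ 1 → orderOf a = 2 := fun h1 h2 =>
      orderOf_eq_prime (by rwa [pow_two]) h2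
    obtain ⟨z, -, z2, z3, z4⟩ := Local.exists_invol_commute_of_not_isConj (o t2 t1)
      (o b2 fun e => h1 (e ▸ one_mem _)) fun e => by
        obtain ⟨g, hg⟩ := isConj_iff.1 e
        exact tJ (sn t tN t2 (n⁻¹ * g) (by
          rw [conj_mul_eq, hg]; simpa [mul_assoc] using mem_sup_right hb))
    exact h1 (c.NJ_le (c.sw_C hG sz sn k ⟨1, by rw [pow_one, pow_two, t2]⟩ (ct (mem_C1.2 z3.symm.eq))
      (by rw [← pow_two, ← z2, pow_orderOf_eq_one]) (fun e => by simp [e] at z2) z3.eq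
      (mem_C1.2 z4.eq)))

end K0

end Cfsg.Lib.GCT
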