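import Cfsg.Agent.Asc.EndA
import Cfsg.Agent.AB.Two2

/-! Pushing up with an element interchanging `A` and `B`: sectional rank at most four. -/

set_option autoImplicit false

open scoped commutatorElement MatrixGroups

namespace Cfsg.Lib.GCT

open Cfsg Subgroup Cfsg.Lib.Trans Cfsg.Lib.Gold Cfsg.Lib.Gomi

universe u

variable {G : Type u} [Group G] [Finite G] {F : Type} [Field F] [Fintype F]
  {θ : G → SL(2, F)} {ψ : G → Fin 2 → F} {A B D' : Subgroup G} {x y t : G}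

theorem tr_D (h : HasPar F A B) (cA : Cs A ≤ A) (dle : D' ≤ A ⊓ B) (dn : Ns A ⊓ Ns B ≤ Ns D')
    (dd : ZZ A B ⊓ D' = ⊥) {e d : G} (he : e ∈ D') (e1 : e ≠ 1) (hd : d ∈ D') (d1 : d ≠ 1) :
    ∃ l ∈ Ns A ⊓ Ns B, l ∈ Cs (ZZ A B) ∧ l * e * l⁻¹ = d := by
  have n : ∀ {e}, e ∈ D' → e ≠ 1 → e ∉ ZZ A B := fun he e1 k => e1 (dd.le (mem_inf.2 ⟨k, he⟩))
  obtain ⟨l, hl, k⟩ := h.exists_conj_eq (dle he).1 (n he e1) (dle hd).1 (n hd d1)
  have lA := LL_le h.ab hl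
  have lN : l ∈ Ns A ⊓ Ns B := ⟨lA, h.Ns_inf_le cA ⟨lA, h.mem_Ns lA (dle he) (n he e1) (by
    simpa using mul_mem (ZZ_le h.ab k).2 (dle hd).2)⟩⟩
  exact ⟨l, lN, fun z hz => (hz.2 l hl).symm, mul_inv_eq_one.1 (dd.le (mem_inf.2 ⟨k,
    mul_mem (mem_normalizer_conj (dn lN) he) (inv_mem hd)⟩))⟩

theorem K0.sn_of (c : K0 A B D' θ ψ) (h : Sw A B x)
    (k : ∀ t ∈ Ns (A ⊔ B), ∀ g, g * t * g⁻¹ ∈ A ⊓ B → t ∈ A ⊔ B) : SN A B := fun t ht t2 g hg => by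
  rcases c.ab.inv _ hg (by rw [conj_mul, t2, mul_one, mul_inv_cancel]) with e | e
  · obtain ⟨l, hl, e'⟩ := c.par.hasPar.exists_conj e
    exact k t ht (l * g) (conj_mul_eq l g t ▸ ⟨mem_normalizer_conj (LL_le c.ab hl) e, e'⟩)
  · obtain ⟨l, hl, e'⟩ := (c.par' h.1 h.2).exists_conj e
    exact k t ht (l * g) (conj_mul_eq l g t ▸ ⟨e', mem_normalizer_conj (LL_le c.ab.symm hl) e⟩)

namespace K1

variable (c : K1 A B D' θ ψ)
include c

theorem le_of_conj {L : Subgroup G} (h : Sw A B y) (hy : y ∈ L) {d : G} (hd : d ∈ ZZ A B)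
    (d1 : d ≠ 1) (k : ∀ k ∈ L, k * d * k⁻¹ ∈ A ⊓ B) : L ≤ Ns (A ⊔ B) := fun g hg => by
  refine c.mem_Ns (cj_le_iff.2 fun j hj => Ns_inf_le_Ns_sup ⟨c.cd d hd d1 (mem_C1.2 ?_), ?_⟩)
  · calc g * j * g⁻¹ * d = g * (j * (g⁻¹ * d * g⁻¹⁻¹)) * g⁻¹ := by group
      _ = _ := by rw [← c.ab.comm_Z hj (k _ (inv_mem hg))]; group
  · rw [← h.1, Ns, ← cj_normalizer]
    refine mem_cj.2 (c.cd d hd d1 (mem_C1.2 ?_))
    calc y⁻¹ * (g * j * g⁻¹) * y * d = y⁻¹ * g * (j * (g⁻¹ * y * d * (g⁻¹ * y)⁻¹)) * (g⁻¹ * y) := by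
          group
      _ = _ := by rw [← c.ab.comm_Z hj (k _ (mul_mem (inv_mem hg) hy))]; group

theorem le_N (hD : ZZ A B ≠ ⊥) {L : Subgroup G} (hL : Local.CharP 2 L) (hJ : A ⊔ B ≤ L)
    (h : Sw A B y) (hy : y ∈ L) : L ≤ Ns (A ⊔ B) := by
  have P := c.par
  have ab := P.ab
  have nR := Local.le_normalizer_pCoreOf (p := 2) L
  have pR := Local.isPGroup_pCoreOf (p := 2) L
  have cR : L ⊓ Cs (pCoreOf 2 L) ≤ pCoreOf 2 L := hL
  have RN := c.wc.le_normalizer_of_le_normalizer pR (hJ.trans nR)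
  generalize pCoreOf 2 L = R at nR pR cR RN
  have pD : IsPGroup 2 (ZZ A B) := ab.isPGroup.to_le (ZZ_le_A.trans le_sup_left)
  have sq : ∀ {a : G} (g : G), a * a = 1 → g * a * g⁻¹ * (g * a * g⁻¹) = 1 := fun g e => by
    rw [conj_mul, e, mul_one, mul_inv_cancel]
  have cm : ∀ {X : Subgroup G} {e j : G}, j ∈ Ns X → e ∈ X → ⁅e, j⁆ ∈ X := fun {X e j} h1 h2 =>
    commutatorElement_inv j e ▸ X.inv_mem (Par.comm_mem_N h1 h2)
  by_cases hs : R ≤ Ns A ⊓ Ns B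
  · obtain ⟨d, hd, d1, d2⟩ := exists_fix_ne pD pR (hs.trans (inf_le_left.trans Ns_le_Ns_ZZ)) hD
    have nY : L ≤ Ns (R ⊓ Cs R) := fun k hk => Ns_inf_le_Ns_inf ⟨nR hk, mem_Ns_Cs (nR hk)⟩
    refine c.le_of_conj h hy hd d1 fun k hk => ?_
    have e1 := mem_normalizer_conj (nY hk) (mem_inf.2 ⟨cR ⟨hJ (mem_sup_left hd.1), d2⟩, d2⟩)
    refine h.mem_Z ab (by_contra fun n => ?_) (sq k (ab.sqA d hd.1))
      ((mem_normalizer_conj (nY hy) e1).2 _ e1.1)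
    obtain ⟨⟨a, ha, n1⟩, b, hb, n2⟩ := c.fld (hs e1.1) (.of_mem pR e1.1) n
    exact (ab.mem_or_mem (Par.comm_mem_N (hs e1.1).1 ha) (Par.comm_mem_N (hs e1.1).2 hb)
      ((cm (nY (hJ (mem_sup_right hb))) e1).2 _ (cm (nY (hJ (mem_sup_left ha))) e1).1)).elim n1 n2
  obtain ⟨r, hr, nr⟩ := SetLike.not_le_iff_exists.1 hs
  have sr : Sw A B r := (c.or_swap (RN hr)).resolve_left nr
  have dl : ∀ w ∈ A, w * (r * w * r⁻¹) ∈ R := fun w hw => by
    simpa only [commutatorElement_def, inv_eq_of_sq (ab.sqA w hw), mul_assoc] using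
      Par.comm_mem_N (nR (hJ (mem_sup_left hw))) hr
  have ZR : A ⊓ B ≤ R := by
    rw [← P.hasPar.commutator_eq (c.par' h.1 h.2) c.hq (by rw [c.zz' h.1 h.2, c.dd])]
    refine commutator_le.2 fun a ha b hb => ?_
    obtain ⟨w, hw, rfl⟩ : ∃ w ∈ A, r * w * r⁻¹ = b := sr.1.ge hb
    have m := Par.comm_mem_N (nR (hJ (mem_sup_left ha))) (dl w hw)
    rwa [comm_mul_right', commutatorElement_eq_one_iff_mul_comm.2 (ab.commA ha hw), one_mul,
      ab.commA hw (ab.comm_mem ha hb).1, mul_inv_cancel_right] at m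
  obtain ⟨d, hd, d1⟩ := (bot_or_exists_ne_one _).resolve_left hD
  refine c.le_of_conj h hy hd d1 fun k hk => ?_
  have ER : cj k (A ⊓ B) ≤ R := (cj_mono k ZR).trans (mem_Ns_iff.1 (nR hk)).le
  have RE : R ≤ Ns (cj k (A ⊓ B)) := by
    rw [Ns, ← cj_normalizer, ← mem_Ns_iff.1 (nR hk)]
    exact cj_mono k (RN.trans c.NJ_le)
  have E2 : ∀ e ∈ cj k (A ⊓ B), e * e = 1 := AB.sq_cj (A := A ⊓ B) (fun z hz => ab.sqA z hz.1) k
  have cE : Nat.card (cj k (A ⊓ B)) = Fintype.card F * Fintype.card F := by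
    rw [card_cj, c.card_Z, (c.sup_D hD).2.1]
  suffices cj k (A ⊓ B) ≤ A ⊓ B from this (conj_mem_cj.2 (ZZ_le ab hd))
  generalize cj k (A ⊓ B) = E at ER RE E2 cE
  have k1 : ∀ e ∈ E, e ∈ A ⊔ B → e ∈ A ⊓ B := fun e he hJ => sr.mem_Z ab hJ (E2 e he)
    (comm_of_sq E2 _ he _ (mem_normalizer_conj (RE hr) he))
  have k2 : ∀ e ∈ E, e ∈ Ns A ⊓ Ns B → e ∈ A ⊓ B := fun e he hN => k1 e he (by_contra fun n => by
    obtain ⟨⟨a, ha, n1⟩, -⟩ := c.fld hN (.of_mem pR (ER he)) n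
    have m := (k1 _ (cm (RE (dl a ha)) he) (Par.comm_mem_N (RN (ER he)) (mul_mem (mem_sup_left ha)
      (mem_sup_right (sr.mB.2 ha))))).2
    rw [comm_mul_right'] at m
    exact n1 ((mul_mem_cancel_right (mem_normalizer_conj (ab.nB ha)
      (Par.comm_mem_N hN.2 (sr.mB.2 ha)))).1 m))
  refine fun e he => k2 e he (by_contra fun n => ?_)
  have se : Sw A B e := (c.or_swap (RN (ER he))).resolve_left n
  have h1 := card_le_of_idx (M := Ns A) (T := E) fun s hs t ht =>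
    idx_Ns ab s (RN (ER hs)) t (RN (ER ht))
  have h2 : Ns A ⊓ E ≤ A ⊓ B := fun s hs => k2 s hs.2 ⟨hs.1, ab.Ns_inf_le ⟨RN (ER hs.2), hs.1⟩⟩
  have h3 := card_le_relIndex (Z := ZZ A B) h2 (eq_bot_iff.2 fun s hs => c.dd.le ⟨hs.1, by
    have := (c.sw e se.1 se.2).le (conj_mem_cj.2 hs.1)
    rwa [comm_of_sq E2 _ he _ hs.2.2, mul_inv_cancel_right] at this⟩)
  rw [P.hasPar.relIndex_Z] at h3
  have := c.hq
  nlinarith

variable (hG : IsCharacteristicTwoType G) (hD : ZZ A B ≠ ⊥)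
include hG hD

theorem sz : SZ A B := fun _ z h hz z1 e =>
  c.le_N hD (charP_C1 hG (c.ab.sqA z hz.1) z1) (c.ab.S_le_Cs.trans (Cs_le_C1 hz)) h (mem_C1.2 e)

theorem cz_sw (h : Sw A B x) : CZ A B := fun a ha na b hb nb => by
  have ab := c.ab
  have hy := ab.comm_mem ha hb
  have yD := c.par.hasPar.comm_not_mem ha na hb nb
  have yD' : ⁅a, b⁆ ∉ D' := fun h => (c.dav a ha b hb h).elim na nb
  generalize ⁅a, b⁆ = y at hy yD yD'
  obtain ⟨d, hd, d', hd', rfl⟩ := c.dec (c.sup_D hD).1 hy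
  have d1 : d ≠ 1 := fun n => yD' (by rwa [n, one_mul])
  have d1' : d' ≠ 1 := fun n => yD (by rwa [n, mul_one])
  have n1 : ∀ {d}, d ≠ 1 → x * d * x⁻¹ ≠ 1 := fun h e => h (by simpa using e)
  have z := c.zz' h.1 h.2
  have m1 : x * d * x⁻¹ ∈ D' := (c.sw x h.1 h.2).le (conj_mem_cj.2 hd)
  have m2 : x * d' * x⁻¹ ∈ ZZ A B := by
    have := ZZ_cj (A := B) (B := A) x
    rw [h.1, h.2, z] at this
    exact this.ge (conj_mem_cj.2 hd')
  obtain ⟨l, l1, l2, l3⟩ := tr_D c.par.hasPar (c.cA hG) c.dle c.dn c.dd m1 (n1 d1) hd' d1'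
  obtain ⟨m, k1, k2, k3⟩ := tr_D (D' := ZZ A B) (c.par' h.1 h.2) (c.cB hG)
    ((ZZ_le ab).trans (inf_comm ..).le) (inf_le_right.trans Ns_le_Ns_ZZ)
    (by rw [z, inf_comm, c.dd]) m2 (n1 d1') hd d1
  refine c.sz hG hD (m * (l * x)) _ ((h.mul l1).mul ⟨k1.2, k1.1⟩) hy
    (fun e => yD (e ▸ one_mem _)) (mul_inv_eq_iff_eq_mul.1 ?_)
  rw [← conj_mul, conj_mul_eq m, conj_mul_eq m, conj_mul_eq l, conj_mul_eq l, l3,
    ← l2 _ m2, mul_inv_cancel_right, k3, ← k2 _ (z ▸ hd'), mul_inv_cancel_right]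
  exact ab.commA (c.dle hd').1 hd.1

theorem sn (h : Sw A B x) : SN A B := c.sn_of h fun t ht g hg => by_contra fun tJ => by
  have ab := c.ab
  have cz := c.cz_sw hG hD h
  have t2 : t * t = 1 := by
    simpa [conj_mul] using ab.sqA _ hg.1
  obtain ⟨S, hS, JS⟩ := exists_isSylowIn_ge ab.isPGroup (ab.S_le_Cs.trans (Cs_le_C1 hg))
  obtain ⟨k, hk, e⟩ := hS.exists_cj_le (Q := cj g ((A ⊔ B) ⊓ C1 t))
    ((ab.isPGroup.to_le inf_le_left).map _) (cj_le_iff.2 fun u hu => mem_C1.2 (by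
      rw [conj_mul, conj_mul, mem_C1.1 hu.2]))
  rw [← cj_mul] at e
  have e1 : k * g * t * (k * g)⁻¹ ∈ A ⊓ B := by
    rwa [conj_mul_eq, mem_C1.1 hk, mul_inv_cancel_right]
  have US : ∀ u ∈ A ⊔ B, u ∈ C1 t → k * g * u * (k * g)⁻¹ ∈ S := fun u h1 h2 =>
    cj_le_iff.1 e u ⟨h1, h2⟩
  generalize k * g = h at e1 US
  have SN := c.le_Ns hS.isPGroup JS
  have key : ∀ a ∈ A, a ∉ B → ∀ b ∈ B, b ∉ A → h * ⁅a, b⁆ * h⁻¹ ∉ A ⊔ B := fun a ha na b hb nb k => by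
    have k1 : ∀ X : Subgroup G, (∀ s ∈ X, s * s = 1) → Nat.card A ≤ Nat.card X →
        h * ⁅a, b⁆ * h⁻¹ ∈ X → h * t * h⁻¹ ∉ X := fun X sq cX m m' => by
      have := c.wcE (E := cj h⁻¹ X) (le_trans (fun s hs => mem_C1.2 (by
        have := comm_of_sq sq _ (mem_cj_inv.1 hs) _ m
        rwa [conj_mul, conj_mul, mul_left_inj, mul_right_inj] at this)) (cz a ha na b hb nb))
        (AB.sq_cj sq _) (by rwa [card_cj])
      exact tJ (this.elim (fun e => mem_sup_left (e.le (mem_cj_inv.2 m')))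
        fun e => mem_sup_right (e.le (mem_cj_inv.2 m')))
    rcases ab.inv _ k (by
      rw [conj_mul, ab.sqA _ (ab.comm_mem ha hb).1, mul_one, mul_inv_cancel]) with m | m
    · exact k1 A ab.sqA le_rfl m e1.1
    · exact k1 B ab.sqB (by rw [c.card_A, c.card_B]) m e1.2
  rcases c.or_swap ht with s | s
  · obtain ⟨⟨a, ha, na, ac⟩, b, hb, nb, bc⟩ := c.fix_fld s t2 tJ
    exact key a ha na b hb nb (Gomi.conj_comm h a b ▸ c.comm_swap hD hS.isPGroup JS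
      (US a (mem_sup_left ha) ac) (US b (mem_sup_right hb) bc))
  have s' : Sw A B t := s
  have k1 : ∀ w ∈ A, w ∉ B → ∀ b ∈ B, w * b ∈ C1 t →
      h * (w * b) * h⁻¹ * (h * (w * b) * h⁻¹) ∉ A ⊔ B := fun w hw nw b hb k => by
    rw [conj_mul, ab.mul_sq hw hb]
    refine key w hw nw b hb fun m => nw ((mul_mem_cancel_right hb).1 ?_)
    have := s'.mB.2 (mul_mem hw m)
    rwa [← mem_C1.1 k, mul_inv_cancel_right] at this
  obtain ⟨r, hr, v, hv, n1, n2, n3⟩ := c.par.hasPar.exists_pair_A c.hq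
  obtain ⟨b, hb, b1⟩ := c.exists_fix_swap hD s.1 s.2 (t2 ▸ one_mem _) hr
  obtain ⟨b', hb', b2⟩ := c.exists_fix_swap hD s.1 s.2 (t2 ▸ one_mem _) hv
  have j1 := mul_mem (mem_sup_left hr) (mem_sup_right (S := A) hb)
  have j2 := mul_mem (mem_sup_left hv) (mem_sup_right (S := A) hb')
  have k2 : ∀ u ∈ A ⊔ B, u ∈ C1 t → h * u * h⁻¹ * (h * u * h⁻¹) ∈ cj h (A ⊓ B) ⊓ (Ns A ⊓ Ns B) :=
    fun u h1 h2 => ⟨by rw [conj_mul]; exact conj_mem_cj.2 (ab.sq_mem h1), (c.or_swap (SN (US u h1 h2))).elim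
      (fun k => mul_mem k k) fun k => Sw.sq k k⟩
  have E2 : ∀ e ∈ cj h (A ⊓ B) ⊓ (Ns A ⊓ Ns B), e * e = 1 := fun e he =>
    AB.sq_cj (A := A ⊓ B) (fun z hz => ab.sqA z hz.1) h e he.1
  have k3 := c.idx inf_le_right (Gomi.isPGroup_of_sq E2) (fun e he => E2 e he ▸ one_mem _) _
    (k2 _ j1 b1) _ (k2 _ j2 b2) (k1 r hr n1 b hb b1) (k1 v hv n2 b' hb' b2)
  have e2 : r * b * (v * b') = r * v * (v⁻¹ * b * v * b') := by group
  refine k1 _ (mul_mem hr hv) n3 _ (mul_mem (mem_normalizer_conj' (ab.nB hv) hb) hb')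
    (e2 ▸ mul_mem b1 b2) ?_
  rw [← e2, ← conj_mul]
  have u1 := US _ j1 b1
  have u2 := US _ j2 b2
  generalize h * (r * b) * h⁻¹ = u at u1 k3
  generalize h * (v * b') * h⁻¹ = w at u2 k3
  rw [show u * w * (u * w) = u * ⁅w, u⁆ * u⁻¹ * (u * u * (w * w)) by
    rw [commutatorElement_def]; group]
  exact mul_mem (mem_normalizer_conj (SN u1) (c.comm_swap hD hS.isPGroup JS u2 u1)) k3

end K1

theorem K1.secRank (c : K1 A B D' θ ψ) (hG : IsCharacteristicTwoType G) (h : Sw A B x) :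
    SectionalPRankLE 2 4 G := by
  by_cases hD : ZZ A B = ⊥
  swap
  · exact (c.sw_fin hG (c.sz hG hD) (c.sn hG hD h) h).elim
  have T : Two F A B := ⟨c.par.hasPar, c.par' h.1 h.2, hD, by
    rw [c.zz' h.1 h.2, ← c.sw x h.1 h.2, hD, cj_bot], c.cA hG, c.cB hG, c.hq⟩
  by_cases hq : 4 < Fintype.card F
  · exact (c.sw_fin hG (fun _ _ _ hz z1 _ => T.C1_le hq hG hz z1) (c.sn_of h fun t ht g hg =>
      T.mem_S_of_cj hq hG (mem_cj_inv.2 hg) ht) h).elim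
  refine T.secRank ?_
  have := c.par.charP
  obtain ⟨n, -, e⟩ := FiniteField.card F 2
  have := c.hq
  have h3 : Fintype.card F ≠ 3 := fun k =>
    absurd (k ▸ e ▸ dvd_pow_self 2 n.ne_zero : 2 ∣ 3) (by norm_num)
  omega

theorem secRank_of_sw (ab : AB A B) (h : Sw A B x)
    (h1 : ∀ u ∈ Ns A ⊓ Ns B, E2 u → u ∈ A ⊔ B) (h2 : Nat.card ↥(A ⊓ B) ≤ 4) :
    SectionalPRankLE 2 4 G := by
  obtain ⟨y, -, s, j, y2⟩ := h.two
  obtain ⟨P, hP⟩ := ((Solv.PG.isPGroup_zpowers y2).to_sup_of_normal_right' ab.isPGroup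
    (zpowers_le.2 s.mem)).exists_le_sylow
  have hy := hP (mem_sup_left (mem_zpowers y))
  have hS := le_sup_right.trans hP
  refine Solv.PG.secRank_of_sylow P (Solv.PG.secRank_four_of_normal_rank P.isPGroup'
    fun E hE e2 => le_trans ?_ h2)
  rw [← card_map_of_injective (subtype_injective _)]
  have hn : (P : Subgroup G) ≤ Ns (E.map (P : Subgroup G).subtype) := by
    have := le_normalizer_map (H := E) (P : Subgroup G).subtype
    rwa [normalizer_eq_top, ← MonoidHom.range_eq_map, range_subtype] at this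
  have h3 : ∀ e ∈ E.map (P : Subgroup G).subtype, e * e = 1 := by
    rintro _ ⟨e, he, rfl⟩
    exact congrArg Subtype.val ((pow_two e).symm.trans (e2 e he))
  generalize E.map (P : Subgroup G).subtype = E at hn h3
  have k1 : ∀ e ∈ E, e ∈ A ⊔ B → e ∈ A ⊓ B := fun e he hJ => s.mem_Z ab hJ (h3 e he)
    (comm_of_sq h3 _ he _ (mem_normalizer_conj (hn hy) he))
  refine Subgroup.card_le_of_le fun e he => k1 e he (by_contra fun n => ?_)
  obtain ⟨u, hu, nu, k⟩ := exists_fix_mod (Y := A ⊔ B) (Gomi.isPGroup_of_sq h3) ab.isPGroup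
    (hS.trans hn) fun l => n (l he)
  obtain ⟨a, ha, na⟩ := ab.exists_A
  have uN : u ∈ Ns (A ⊔ B) := MP.mem_norm_of_comm fun b hb => (k b hb).2
  rcases ab.cj_eq_or uN with l | l
  · exact nu (h1 u ⟨l, ab.Ns_inf_le ⟨uN, l⟩⟩ (.of_mem (Gomi.isPGroup_of_sq h3) hu))
  · have m := k a (mem_sup_left ha)
    exact na (by simpa using (mul_mem_cancel_left ((Sw.mB l).2 ha)).1 (k1 _ m.1 m.2).2)

end Cfsg.Lib.GCT
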