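import Cfsg.Agent.Asc.EndB
import Cfsg.Agent.GCT.Two
import Cfsg.Agent.GCT.Ex

/-! Pushing up a group with a unique maximal subgroup over a Sylow 2-subgroup. -/

set_option autoImplicit false

open scoped commutatorElement MatrixGroups

namespace Cfsg.Lib.GCT

open Cfsg Subgroup Cfsg.Lib.Solv Cfsg.Lib.Trans Cfsg.Lib.Trans.TJ Cfsg.Lib.Trans.MP
  Cfsg.Lib.Trans.PU Cfsg.Lib.Trans.BB Cfsg.Lib.Local.MSS Cfsg.Lib.Chev.Core Cfsg.Lib.Gold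
  Cfsg.Lib.Gomi

universe u

variable {G : Type u} [Group G] [Finite G] {F : Type} [Field F] [Fintype F]
  {θ : G → SL(2, F)} {ψ : G → Fin 2 → F}

local notation "𝐁" T:max => baumannSubgroupOf 2 T

theorem RB.line {B E : Subgroup G} (r : RB B E θ ψ) {x : G} (h1 : x ∈ Ns E) (h2 : x ∈ Ns B)
    (h3 : x ∈ Cs (omZ 2 B)) (h4 : ∀ b ∈ B, ⁅x, b⁆ ∈ Cs B) : ∃ b ∈ B, b * x ∈ commLe E (WW E) := by
  have N := r.nat
  have nL : Ns E ⊓ Ns B ≤ Ns (E ⊔ B) := Ns_inf_le_Ns_sup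
  have nV : Ns (E ⊔ B) ≤ Ns (VV B E) := le_normalizer_omZ (norm_Q _)
  have nC : Ns (E ⊔ B) ≤ Ns (VV B E ⊓ Cs (E ⊔ B)) := norm_inf nV (norm_cent le_rfl)
  have xZ : ∀ v ∈ VV B E, ⁅x, v⁆ ∈ omZ 2 B := fun v hv =>
    r.mem_Z.2 ⟨comm_mem_of_norm (nV (nL ⟨h1, h2⟩)) hv, h4 v (r.V_le hv)⟩
  obtain ⟨v₀, hv₀, e₀⟩ := N.surj ![0, 1]
  obtain ⟨b, hb, k⟩ := r.tr hv₀ (fun h => by simpa [e₀] using (r.cent v₀ hv₀).1 h) (xZ v₀ hv₀)
  refine ⟨b, hb, ?_⟩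
  have yN : b * x ∈ Ns E ⊓ Ns B := ⟨mul_mem (r.nB hb) h1, mul_mem (le_normalizer hb) h2⟩
  have yZ : ∀ v ∈ VV B E, ⁅b * x, v⁆ = ⁅x, v⁆ * ⁅b, v⁆ := fun v hv => by
    rw [comm_mul_left', omZ_le_centralizer B (xZ v hv) b hb, mul_inv_cancel_right]
  have y0 : ⁅b * x, v₀⁆ ∈ VV B E ⊓ Cs (E ⊔ B) := by
    have := mul_mem (xZ v₀ hv₀) (r.comm_Z hb hv₀)
    rw [yZ v₀ hv₀]
    exact ⟨r.Z_le this, mem_cent_sup.2 ⟨by
      rwa [inv_eq_of_sq (r.sqV (r.Z_le (xZ v₀ hv₀)))] at k, omZ_le_centralizer B this⟩⟩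
  have y1 : ∀ v ∈ VV B E, ⁅b * x, v⁆ ∈ omZ 2 B := fun v hv =>
    yZ v hv ▸ mul_mem (xZ v hv) (r.comm_Z hb hv)
  have y2 : b * x ∈ Cs (omZ 2 B) := mul_mem (cent_symm (omZ_le_centralizer B) hb) h3
  generalize b * x = y at yN y0 y1 y2
  have yL := nL yN
  have fx : ∀ {l v}, l ∈ E ⊔ B → v ∈ VV B E → (⁅l, v⁆ ∈ VV B E ⊓ Cs (E ⊔ B) ↔
      (θ l).1.mulVec (ψ v) = ψ v) := fun hl hv => by
    rw [← N.ker _ (N.comm_mem hl hv), N.psi_comm hl hv, sub_eq_zero]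
  obtain ⟨m, hm, em⟩ := N.onto (sl2V 1)
  have hm' : y⁻¹ * m * y ∈ E ⊔ B := mem_normalizer_conj' yL hm
  have c0 : ∀ {l}, l ∈ Ns (E ⊔ B) → ⁅l, v₀⁆ ∈ VV B E ⊓ Cs (E ⊔ B) →
      l ∈ commStab (VV B E ⊓ Cs (E ⊔ B)) {v₀} := fun h k => ⟨nC h, fun _ e => e ▸ k⟩
  have m0 := (fx hm' hv₀).1 ((mul_mem (mul_mem (inv_mem (c0 yL y0)) (c0 (le_normalizer hm)
    ((fx hm hv₀).2 (by rw [em, e₀]; ext i; fin_cases i <;>
      simp [sl2V, Matrix.mulVec, dotProduct])))) (c0 yL y0)).2 v₀ rfl)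
  have c1 : ∀ w ∈ VV B E, ψ w 0 = 0 → ⁅y, w⁆ ∈ VV B E ⊓ Cs (E ⊔ B) := fun w hw e => by
    have a1 := mem_normalizer_conj (nC yL) ((fx hm' hw).2 (by
      rw [show ψ w = ψ w 1 • ψ v₀ by rw [e₀]; exact MP.vec_ext (by simp [e]) (by simp),
        Matrix.mulVec_smul, m0]))
    rw [MP.conj_comm, show y * (y⁻¹ * m * y) * y⁻¹ = m by group,
      fx hm (mem_normalizer_conj (nV yL) hw), em, show y * w * y⁻¹ = ⁅y, w⁆ * w by
        rw [commutatorElement_def]; group, N.add _ (r.Z_le (y1 w hw)) _ hw] at a1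
    have a2 := congrFun a1 1
    obtain ⟨a3, a4⟩ := r.mem_Z.1 (y1 w hw)
    refine ⟨a3, mem_cent_sup.2 ⟨(r.psi_zero a3 a4).1 ?_, a4⟩⟩
    simpa [sl2V, Matrix.mulVec, dotProduct, e] using a2
  have c2 : ∀ v ∈ VV B E, ⁅y, v⁆ ∈ VV B E ⊓ Cs (E ⊔ B) := fun v hv => by
    obtain ⟨w, hw, e⟩ := N.surj ![0, ψ v 1]
    have a1 := mul_mem (inv_mem hw) hv
    have a2 := r.mem_Z.2 ⟨a1, (r.cent _ a1).2 (by
      rw [N.add _ (inv_mem hw) _ hv, N.psi_inv hw, e]; simp)⟩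
    rw [← mul_inv_cancel_left w v, comm_mul_cent
      (commutatorElement_eq_one_iff_mul_comm.2 (y2 _ a2).symm)]
    exact c1 w hw (by rw [e]; rfl)
  refine ⟨norm_Q E yN.1, fun e he => ?_⟩
  have eL : e ∈ E ⊔ B := mem_sup_left he
  have a1 := comm_mem_of_norm yN.1 he
  refine Local.le_pCoreOf inf_le_left (norm_inf le_normalizer (le_sup_left.trans r.nQ))
    (r.pB.to_le (inf_le_right.trans r.Q_le)) ⟨a1, (r.ker _ (mem_sup_left a1)).1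
      ((N.theta_eq_one_iff (mem_sup_left a1)).2 ?_)⟩
  have a2 : y ∈ commLe (VV B E) (VV B E ⊓ Cs (E ⊔ B)) := ⟨nC yL, c2⟩
  have a3 : e * y⁻¹ * e⁻¹ ∈ commLe (VV B E) (VV B E ⊓ Cs (E ⊔ B)) :=
    ⟨mul_mem (mul_mem (nC (le_normalizer eL)) (inv_mem a2.1)) (inv_mem (nC (le_normalizer eL))),
      fun v hv => by
        have := mem_normalizer_conj (nC (le_normalizer eL))
          ((inv_mem a2).2 _ (mem_normalizer_conj' (r.nV eL) hv))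
        rwa [MP.conj_comm, show e * (e⁻¹ * v * e) * e⁻¹ = v by group] at this⟩
  simpa only [commutatorElement_def y e, mul_assoc] using (mul_mem a2 a3).2

/-- A family of rank one blocks in `H`. -/
structure Fam (H T : Subgroup G) (q : ℕ) (𝓔 : Set (Subgroup G)) : Prop where
  rq : ∀ E ∈ 𝓔, RQ q (𝐁 T) E
  le : ∀ E ∈ 𝓔, E ≤ H
  gen : ∀ E ∈ 𝓔, H ≤ E ⊔ T
  cj : ∀ E ∈ 𝓔, ∀ u ∈ Ns H ⊓ Ns T, cj u E ∈ 𝓔
  uniq : ∀ E ∈ 𝓔, ∀ E' ∈ 𝓔, QQ (𝐁 T) E' = QQ (𝐁 T) E → E' = E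
  comm : 2 < q → ∀ E ∈ 𝓔, ∀ E' ∈ 𝓔, E ≠ E' → E' ≤ Cs E
  ex : ∃ E ∈ 𝓔, ∀ s ∈ T, Trans.cj s (WW E) ≤ Cs (WW E)

theorem exists_fam {H T M : Subgroup G} (hH : Local.CharP 2 H) (hT : IsSylowIn 2 T H)
    (h0 : T ≠ ⊥) (hM : UniqMax T M H) (hc : ∀ C ≤ T, C ≠ ⊥ → Ns T ≤ Ns C → ¬ H ≤ Ns C) :
    ∃ q 𝓔, Fam H T q 𝓔 := by
  have hf := H.subtype_injective
  have T0 := hT.subgroupOf_top
  have M0 := hM.subgroupOf
  have eT := map_subgroupOf_eq_of_le hT.le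
  have eB := red_bau (p := 2) hT.le
  have c0 : Local.CharP 2 (⊤ : Subgroup H) := subgroupOf_self H ▸ (Local.charP_subgroupOf_iff le_rfl).2 hH
  generalize T.subgroupOf H = S at T0 M0 eT eB
  subst eT
  have k : ∀ C ≤ S, C ≠ ⊥ → S ≤ Ns C → Ns (S.map H.subtype) ≤ Ns (C.map H.subtype) →
      Ns C ≤ M.subgroupOf H := fun C c1 c2 c3 c4 => M0.le_of_lt c3 (lt_top_iff_ne_top.2 fun e =>
    hc _ (map_mono c1) (by rwa [Ne, map_eq_bot_iff_of_injective _ hf]) c4 fun x hx =>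
      red_norm_map (x := ⟨x, hx⟩) (e.ge (mem_top _)))
  have cs : cStarOf 2 S ≤ M.subgroupOf H := sup_le ((cent_le_norm _).trans (k _ (omZ_le S)
    (omZ_ne_bot T0.isPGroup fun e => h0 (by rw [e, Subgroup.map_bot])) (le_normalizer_omZ le_normalizer)
      (by rw [map_omegaOneCenter _ hf]; exact le_normalizer_omZ le_rfl)))
    (iSup_le fun C => k _ (C.2.1.trans (bau_le S)) C.2.2.1 ((le_normalizer.trans
      (normalizer_le_bau S)).trans (norm_le_of_char C.2.1 C.2.2.2)) ((normalizer_le_bau _).trans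
        (eB ▸ norm_le_of_char (map_mono C.2.1) (red_char_map hf C.2.2.2))))
  obtain ⟨E, ⟨⟨q, r⟩, hE⟩, -, w⟩ := exists_rb c0 T0 cs M0.not_le
  have mW : ∀ E : Subgroup H, WW (E.map H.subtype) = (WW E).map H.subtype := fun E =>
    (Local.map_pCoreOf_of_injective _ hf E).symm
  have mQ : ∀ E : Subgroup H, QQ (𝐁 (S.map H.subtype)) (E.map H.subtype) =
      (QQ (𝐁 S) E).map H.subtype := fun E => by
    rw [← eB, QQ, ← Subgroup.map_sup, Local.map_pCoreOf_of_injective _ hf]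
  refine ⟨q, {X | ∃ E : Subgroup H, E.map H.subtype = X ∧ RQ q (𝐁 S) E ∧ ¬ E ≤ M.subgroupOf H},
    ?_, ?_, ?_, ?_, ?_, ?_, _, ⟨E, rfl, r, hE⟩, ?_⟩
  · rintro _ ⟨E, rfl, r, -⟩
    exact eB ▸ r.map hf
  · rintro _ ⟨E, rfl, -⟩
    exact map_subtype_le E
  · rintro _ ⟨E, rfl, -, h⟩
    rw [← Subgroup.map_sup, M0.eq_of_not_le le_sup_right le_top fun e => h (le_sup_left.trans e),
      ← MonoidHom.range_eq_map, range_subtype]
  · rintro _ ⟨E, rfl, r, h⟩ u hu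
    let φ := (H.normalizerMonoidHom ⟨u, hu.1⟩).toMonoidHom
    have e : ∀ X : Subgroup H, (X.map φ).map H.subtype = cj u (X.map H.subtype) := fun X => by
      rw [cj, map_map, map_map]; rfl
    refine ⟨E.map φ, e E, ?_, fun l => h (map_le_iff_le_comap.1 ?_)⟩
    · have := r.map (f := φ) (MulEquiv.injective _)
      rwa [map_injective hf (show ((𝐁 S).map φ).map H.subtype = (𝐁 S).map H.subtype by
        rw [e, eB, cj_eq_of_mem_normalizer (normalizer_le_bau _ hu.2)])] at this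
    · have l' := map_le_iff_le_comap.2 l
      rw [e, cj_le_iff_le_cj_inv] at l'
      have := hM.cj u⁻¹
      rw [cj_eq_of_mem_normalizer (inv_mem hu.1), cj_eq_of_mem_normalizer (inv_mem hu.2)] at this
      exact l'.trans (hM.le_of_lt this.le this.lt)
  · rintro _ ⟨E, rfl, r, h⟩ _ ⟨E', rfl, r', h'⟩ e
    rw [mQ, mQ] at e
    obtain ⟨F, _, _, θ, ψ, -, r₀⟩ := id r
    rw [(ov_of_syl T0 cs (top_inf_eq (Ns (QQ (𝐁 S) E)) ▸ c0.inf_normalizer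
      (r₀.pB.to_le r₀.Q_le) le_top) (le_sup_right.trans r₀.nQ)).uniq ⟨⟨q, r⟩, h⟩ ⟨⟨q, r'⟩, h'⟩
      (map_injective hf e)]
  · rintro hq _ ⟨E, rfl, r, h⟩ _ ⟨E', rfl, r', h'⟩ e _ ⟨x, hx, rfl⟩
    exact red_cent_map ((ov_of_syl T0 cs c0 le_top).comm r hq h le_top r' hq h' le_top
      (fun k => e (k ▸ rfl)) hx)
  · rintro _ ⟨s, hs, rfl⟩
    rw [mW, ← map_cj]
    rintro _ ⟨x, hx, rfl⟩
    exact red_cent_map (w s hs hx)

namespace Fam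

variable {H T : Subgroup G} {q : ℕ} {𝓔 : Set (Subgroup G)} (h : Fam H T q 𝓔) {E : Subgroup G}
include h

theorem crt (hE : E ∈ 𝓔) {b : G} (hb : b ∈ 𝐁 T) : ∃ a ∈ 𝐁 T, a * b⁻¹ ∈ QQ (𝐁 T) E ∧
    ∀ E' ∈ 𝓔, E' ≠ E → WW E' ≤ Cs (WW E) → a ∈ QQ (𝐁 T) E' := by
  obtain ⟨F, _, _, θ, ψ, e, r⟩ := h.rq E hE
  by_cases hq : Fintype.card F = 2
  · by_cases k : b ∈ QQ (𝐁 T) E
    · exact ⟨1, one_mem _, by simpa using k, fun _ _ _ _ => one_mem _⟩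
    obtain ⟨a, ha⟩ := r.exists_inv
    refine ⟨a, ha.mem, r.idxQ2 hq a ha.mem _ (inv_mem hb) ha.nQ (by simpa using k),
      fun E' hE' n c => ?_⟩
    obtain ⟨F', _, _, θ', ψ', e', r'⟩ := h.rq E' hE'
    refine (r'.mem_Q ha.mem).2 fun x hx => by_contra fun l => n (h.uniq E hE E' hE'
      (r.Q_eq hq r' (by omega) c ha hx fun m => l ?_))
    exact (mul_inv_eq_iff_eq_mul.1 m).symm
  obtain ⟨A, -, a1, a2⟩ := r.exA
  obtain ⟨k, hk, a, ha, rfl⟩ := Solv.exists_mul_of_mem_sup_of_le_normalizer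
    ((le_sup_left.trans a1.le).trans (le_sup_right.trans r.nQ)) ((sup_comm _ _).trans a1 |>.ge hb)
  have aB := a1.le (mem_sup_left ha)
  refine ⟨a, aB, by simpa using hk, fun E' hE' n _ => ?_⟩
  obtain ⟨F', _, _, θ', ψ', -, r'⟩ := h.rq E' hE'
  obtain ⟨m, m1, m2⟩ := r.pow
  have := Nat.pow_le_pow_right two_pos m1
  exact (r'.mem_Q aB).2 (cent_symm ((le_inf r'.W_le_B ((pCoreOf_le E').trans
    (h.comm (by omega) E hE E' hE' n.symm))).trans a2) ha)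

theorem norm (hE : E ∈ 𝓔) {u : G} (hu : u ∈ Ns H ⊓ Ns T) (hQ : u ∈ Ns (QQ (𝐁 T) E)) : u ∈ Ns E :=
  mem_Ns_iff.2 (h.uniq E hE _ (h.cj E hE u hu) (by
    rw [← cj_eq_of_mem_normalizer hQ, ← RB.Q_cj,
      cj_eq_of_mem_normalizer (normalizer_le_bau T hu.2)]))

theorem le_Ns (hE : E ∈ 𝓔) {U : Subgroup G} (h1 : WW E ≤ U) (h2 : U ≤ QQ (𝐁 T) E)
    (h3 : T ≤ Ns U) : IsPGroup 2 U ∧ U ≠ ⊥ ∧ H ≤ Ns U := by
  obtain ⟨F, _, _, θ, ψ, -, r⟩ := h.rq E hE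
  exact ⟨r.pB.to_le (h2.trans r.Q_le), fun e => r.not_cent (h1.trans (e.le.trans bot_le)),
    (h.gen E hE).trans (sup_le (r.norm_of h1 h2) h3)⟩

theorem ncl_le (hE : E ∈ 𝓔) {X : Subgroup G} (hX : X ≤ Ns T)
    (k : ∀ s ∈ X, Trans.cj s (WW E) ≤ Cs (WW E)) : Local.MSS.ncl (WW E) X ≤ QQ (𝐁 T) E := by
  obtain ⟨F, _, _, θ, ψ, -, r⟩ := h.rq E hE
  exact iSup_le fun x w hw => (r.mem_Q ((cj_eq_of_mem_normalizer (normalizer_le_bau T (hX x.2)) ▸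
    cj_mono _ r.W_le_B :) hw)).2 (k x x.2 hw)

variable (hT : IsSylowIn 2 T H)
  (hu : ∀ R : Subgroup G, IsPGroup 2 R → R ≠ ⊥ → H ≤ Ns R → Ns R ≤ Ns (Local.resOf 2 H))
  (hs : ∀ S : Subgroup G, IsPGroup 2 S → T ≤ S → S ≤ Ns (Local.resOf 2 H) →
    S ⊓ commLe (Local.resOf 2 H) (pCoreOf 2 (Local.resOf 2 H)) ≤ T)
include hT hu hs

theorem bs : BS (𝐁 T) := by
  obtain ⟨E, hE, hc⟩ := h.ex
  obtain ⟨F, _, _, θ, ψ, -, r⟩ := h.rq E hE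
  have TB : T ≤ Ns (𝐁 T) := le_normalizer.trans (normalizer_le_bau T)
  have TH : T ≤ Ns H ⊓ Ns T := le_inf (hT.le.trans le_normalizer) le_normalizer
  have zQ : ∀ E ∈ 𝓔, 𝐁 T ⊓ Cs (𝐁 T) ≤ QQ (𝐁 T) E := fun E hE y hy => by
    obtain ⟨F, _, _, θ, ψ, -, r⟩ := h.rq E hE
    exact (r.mem_Q hy.1).2 (centralizer_le r.W_le_B hy.2)
  have Y1 := h.ncl_le hE le_normalizer hc
  obtain ⟨S, hS, TS⟩ := exists_isSylowIn_ge hT.isPGroup
    (le_inf (hT.le.trans (self_le_normalizer_resOf (p := 2) H)) TB)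
  have key : S ⊓ Cs (omZ 2 (𝐁 T)) ⊓ commLe (𝐁 T) (𝐁 T ⊓ Cs (𝐁 T)) ≤ T := by
    by_contra n
    obtain ⟨x, ⟨⟨x1, x2⟩, -, x3⟩, xT, k⟩ := exists_fix_mod
      (hS.isPGroup.to_le (inf_le_left.trans inf_le_left)) hT.isPGroup (norm_inf (norm_inf
        (TS.trans le_normalizer) (norm_cent (le_normalizer_omZ TB))) fun t ht =>
          mem_normalizer_of_cj_le (cj_le_iff.2 fun g hg => by
            have t1 := norm_inf TB (norm_cent TB) ht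
            refine ⟨mul_mem (mul_mem t1 hg.1) (inv_mem t1), fun v hv => ?_⟩
            have := mem_normalizer_conj t1 (hg.2 _ (mem_normalizer_conj' (TB ht) hv))
            rwa [MP.conj_comm, show t * (t⁻¹ * v * t) * t⁻¹ = v by group] at this)) n
    have xN : x ∈ Ns T := mem_norm_of_comm fun t ht => (k t ht).2
    have xH : x ∈ Ns H := by
      rw [← resOf_sup_isSylowIn hT]
      exact Ns_inf_le_Ns_sup ⟨(hS.le x1).1, xN⟩
    obtain ⟨b, hb, mn⟩ := Set.exists_min_image (𝐁 T : Set G) (fun b => Set.ncard {X | (∃ t ∈ T,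
      Trans.cj t E = X) ∧ b * x ∉ commLe X (WW X)}) (Set.toFinite _) ⟨1, one_mem _⟩
    have all : ∀ t ∈ T, b * x ∈ commLe (Trans.cj t E) (WW (Trans.cj t E)) := fun t ht => by
      by_contra n
      have hE' := h.cj E hE t (TH ht)
      obtain ⟨F, _, _, θ, ψ, -, r'⟩ := h.rq _ hE'
      obtain ⟨b₁, hb₁, e⟩ := r'.line (x := b * x) (mul_mem (r'.nB hb) (h.norm hE' ⟨xH, xN⟩
        (mem_norm_of_comm fun y hy => zQ _ hE' (x3 y (r'.Q_le hy))))) (mul_mem (le_normalizer hb)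
          (hS.le x1).2) (mul_mem (cent_symm (omZ_le_centralizer _) hb) x2) fun y hy => by
            rw [comm_mul_left', (x3 y hy).2 b hb, mul_inv_cancel_right]
            exact mul_mem (x3 y hy).2 (omZ_le_centralizer _ (r.comm b hb y hy))
      obtain ⟨a, ha, a1, a2⟩ := h.crt hE' hb₁
      have QP : ∀ X ∈ 𝓔, QQ (𝐁 T) X ≤ commLe X (WW X) := fun X hX y hy => by
        obtain ⟨F, _, _, θ, ψ, -, r⟩ := h.rq X hX
        exact ⟨r.nW (mem_sup_right (r.Q_le hy)), fun e he =>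
          commutatorElement_inv e y ▸ (WW X).inv_mem (r.comm_Q he hy)⟩
      have e' : a * b * x ∈ commLe (Trans.cj t E) (WW (Trans.cj t E)) := by
        simpa [mul_assoc] using mul_mem (QP _ hE' a1) e
      refine (mn _ (mul_mem ha hb)).not_gt (Set.ncard_lt_ncard ⟨?_, fun l => ?_⟩)
      · rintro _ ⟨⟨s, hs, rfl⟩, k⟩
        refine ⟨⟨s, hs, rfl⟩, fun l => k ?_⟩
        by_cases m : Trans.cj s E = Trans.cj t E
        · exact m ▸ e'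
        rw [mul_assoc]
        refine mul_mem (QP _ (h.cj E hE s (TH hs)) (a2 _ (h.cj E hE s (TH hs)) m ?_)) l
        rw [RB.W_cj', RB.W_cj', Cs, ← cj_centralizer, ← mul_inv_cancel_left t s, cj_mul]
        exact cj_mono t (hc _ (mul_mem (inv_mem ht) hs))
      · exact (l ⟨⟨t, ht, rfl⟩, n⟩).2 e'
    obtain ⟨p1, -, p2⟩ := h.le_Ns hE (Local.MSS.le_ncl _ _) Y1 (le_normalizer_ncl _ _)
    have EK : E ≤ Local.resOf 2 H := r.blk.res.ge.trans (resOf_mono (h.le E hE))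
    have WO : Local.MSS.ncl (WW E) T ≤ pCoreOf 2 (Local.resOf 2 H) := Local.le_pCoreOf
      (Local.MSS.ncl_le ((pCoreOf_le E).trans EK) (hT.le.trans (self_le_normalizer_resOf H)))
      ((resOf_le H).trans p2) p1
    have yS := mul_mem (TS (bau_le T hb)) x1
    have nO := norm_Q (p := 2) (Local.resOf 2 H)
    refine xT ((mul_mem_cancel_left (bau_le T hb)).1 (hs S hS.isPGroup TS
      (hS.le.trans inf_le_left) ⟨yS, nO (hS.le yS).1, fun k hk => ?_⟩))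
    have K1 : Local.resOf 2 H ≤ Local.MSS.ncl E T := (resOf_mono ((h.gen E hE).trans
      (sup_le_sup_right (Local.MSS.le_ncl E T) T))).trans (resOf_sup_le (le_normalizer_ncl _ _)
        (resOf_le_of_isPGroup hT.isPGroup _))
    have K2 : Local.MSS.ncl E T ≤ commStab (pCoreOf 2 (Local.resOf 2 H)) {b * x} :=
      iSup_le fun t e he => ⟨nO (self_le_normalizer_resOf H (h.le _ (h.cj E hE t (TH t.2)) he)),
        fun _ l => l ▸ commutatorElement_inv (b * x) e ▸ Subgroup.inv_mem _ (WO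
          (cj_le_ncl _ t.2 (RB.W_cj' (t : G) E ▸ (all t t.2).2 e he)))⟩
    exact commutatorElement_inv k (b * x) ▸ Subgroup.inv_mem _ ((K2 (K1 hk)).2 _ rfl)
  intro u uB ⟨j, hj⟩ h1 h2
  obtain ⟨p1, p2, p3⟩ := h.le_Ns hE (U := Local.MSS.ncl (WW E) T ⊔ 𝐁 T ⊓ Cs (𝐁 T))
    (le_sup_of_le_left (Local.MSS.le_ncl _ _)) (sup_le Y1 (zQ E hE))
    (norm_sup (le_normalizer_ncl _ _) (norm_inf TB (norm_cent TB)))
  have h3 : ∀ b ∈ 𝐁 T, ⁅u, b⁆ ∈ 𝐁 T ⊓ Cs (𝐁 T) := fun b hb => ⟨comm_mem_of_norm uB hb, h1 b hb⟩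
  obtain ⟨g, hg, e⟩ := hS.exists_cj_le (PG.isPGroup_zpowers hj) (zpowers_le.2 ⟨hu _ p1 p2 p3
    (mem_norm_of_comm fun y hy => mem_sup_right (h3 y (sup_le (Y1.trans r.Q_le) inf_le_left hy))),
    uB⟩)
  have g1 := mem_normalizer_conj (norm_cent (le_normalizer_omZ le_rfl) hg.2) h2
  have nZ := norm_inf (le_refl (Ns (𝐁 T))) (norm_cent le_rfl)
  refine (mem_normalizer_iff.1 hg.2 u).2 (cent_le_bau ⟨key ⟨⟨cj_le_iff.1 e u (mem_zpowers u), g1⟩,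
    nZ (mul_mem (mul_mem hg.2 uB) (inv_mem hg.2)), fun v hv => ?_⟩, g1⟩)
  have := mem_normalizer_conj (nZ hg.2) (h3 _ (mem_normalizer_conj' hg.2 hv))
  rwa [MP.conj_comm, show g * (g⁻¹ * v * g) * g⁻¹ = v by group] at this

theorem main (hG : IsCharacteristicTwoType G) (hN : ¬ Ns T ≤ Ns (Local.resOf 2 H)) :
    SectionalPRankLE 2 4 G := by
  have bs := h.bs hT hu hs
  obtain ⟨E, hE, hc⟩ := h.ex
  obtain ⟨F, _, _, θ, ψ, -, r⟩ := h.rq E hE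
  obtain ⟨x, hx, hx'⟩ : ∃ x ∈ Ns T, ¬ Trans.cj x (WW E) ≤ Cs (WW E) := by
    by_contra! k
    obtain ⟨p1, p2, p3⟩ := h.le_Ns hE (Local.MSS.le_ncl _ _) (h.ncl_le hE le_rfl k)
      (le_normalizer.trans (le_normalizer_ncl _ _))
    exact hN ((le_normalizer_ncl _ _).trans (hu _ p1 p2 p3))
  have TB := normalizer_le_bau (n := 2) T
  have r' := r.cj x
  have eQ := RB.Q_cj x (𝐁 T) E
  rw [cj_eq_of_mem_normalizer (TB hx)] at r' eQ
  rw [← RB.W_cj'] at hx'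
  obtain ⟨ab, e, -, dc, -⟩ := r.pair r' hG bs hx'
  have SQ : T ≤ Ns (QQ (𝐁 T) E) := fun s hs => by
    refine (ab.cj_eq_or (e.symm ▸ TB (le_normalizer hs))).resolve_right fun k => r.not_cent
      fun w hw => ?_
    have a := k.1.le (conj_mem_cj.2 (r.W_le_Q hw))
    have c {y : G} (h1 : y ∈ QQ (𝐁 T) E) (h2 : y ∈ QQ (𝐁 T) (Trans.cj x E)) : y ∈ Cs (𝐁 T) :=
      e ▸ (ab.inf_Cs_S.ge ⟨h1, h2⟩).2
    rcases ab.mem_or_mem (r.W_le_Q hw) a (hc s hs (conj_mem_cj.2 hw) w hw) with b | b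
    · exact c (r.W_le_Q hw) b
    · exact c (r.W_le_Q hw) (conj_mem_cj.1 (k.2.ge b))
  have hn : Ns (QQ (𝐁 T) E) ≤ Ns E := by
    obtain ⟨p1, p2, p3⟩ := h.le_Ns hE r.W_le_Q le_rfl SQ
    refine (hu _ p1 p2 p3).trans (le_of_eq ?_)
    rw [le_antisymm ((resOf_mono (h.gen E hE)).trans (r.blk.res_sup hT.isPGroup fun s hs =>
      h.norm hE ⟨le_normalizer (hT.le hs), le_normalizer hs⟩ (SQ hs)).le)
      (r.blk.res.ge.trans (resOf_mono (h.le E hE)))]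
  have sw : Sw _ _ x := (ab.cj_eq_or (e.symm ▸ TB hx)).resolve_left fun k =>
    ab.nle (by rw [eQ, mem_Ns_iff.1 k])
  by_cases hq : Fintype.card F = 2
  swap
  · obtain ⟨m, m1, m2⟩ := r.pow
    have := Nat.pow_le_pow_right two_pos m1
    refine (r.k1_pair r' hG bs hx' (by omega) hn ?_).secRank hG sw
    rw [eQ, Ns, Ns, ← cj_normalizer, ← cj_normalizer]
    exact cj_mono x hn
  obtain ⟨i1, -, i2, i3, i4, i5⟩ := r.inf_eq ab e
  refine secRank_of_sw ab sw (fun u hu u2 => ?_) (by rw [i1, i3, hq]; omega)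
  have uB : u ∈ Ns (𝐁 T) := e ▸ Ns_inf_le_Ns_sup hu
  have uE := hn hu.1
  have uZ : u ∈ Cs (omZ 2 (𝐁 T)) := fun z hz => by
    have fD : ∀ d ∈ omZ 2 (𝐁 T), d ∈ Cs E → d * u = u * d := fun d h1 h2 =>
      Tw.fix_of (Tw.eq_of_card_le_two (hq ▸ dc)) (Ns_inf_le_Ns_inf ⟨uB, mem_Ns_Cs uE⟩)
        ⟨omZ_le _ h1, h2⟩
    by_cases k : z ∈ Cs E
    · exact fD z hz k
    obtain ⟨w, hw, hw'⟩ := SetLike.not_le_iff_exists.1 fun l =>
      absurd (hq ▸ r.idxWZ.symm.trans (relIndex_eq_one.2 l)) (by norm_num)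
    have wZ := r.mem_Z.2 ⟨r.W_le hw.1, hw.2⟩
    have k1 := fD _ (mul_mem wZ hz) (Local.idxLeTwo_of_relIndex (r.idxZ.trans hq) w wZ z hz hw' k)
    have k2 := Tw.fix_of (r.wz_eq hq) (Ns_inf_le_Ns_inf ⟨norm_Q E uE, mem_Ns_Cs uB⟩) hw
    rwa [mul_assoc, ← mul_assoc u, ← k2, mul_assoc, mul_right_inj] at k1
  have cm : ∀ X : Subgroup G, omZ 2 (𝐁 T) ≤ X → (∀ a ∈ X, a * a = 1) → u ∈ Ns X →
      Nat.card X = Fintype.card F * Nat.card (omZ 2 (𝐁 T)) → ∀ a ∈ X, ⁅u, a⁆ ∈ omZ 2 (𝐁 T) :=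
    fun X h1 h2 h3 h4 a ha => (idx_of_card_le (by rw [inf_eq_left.2 h1, h4, hq])).mul_mem_iff
      (mem_normalizer_conj h3 ha) (inv_mem ha) |>.2 (by
        rw [inv_mem_iff, ← mem_normalizer_iff.1 (le_normalizer_omZ le_rfl uB)])
  rw [e]
  refine bs u uB u2 (fun b hb => ?_) uZ
  obtain ⟨a, ha, a', ha', rfl⟩ := ab.mem_sup.1 (e.ge hb)
  rw [BB.comm_mul_right']
  exact mul_mem (omZ_le_centralizer _ (cm _ (i1.ge.trans inf_le_left) ab.sqA hu.1 i4 a ha))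
    (mem_normalizer_conj (norm_cent le_normalizer (r.Q_le ha))
      (omZ_le_centralizer _ (cm _ (i1.ge.trans inf_le_right) ab.sqB hu.2 i5 a' ha')))

end Fam

end Cfsg.Lib.GCT
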